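import Mathlib

/-! A spanning submodule over a local ring with infinite residue field contains a semilocal basis. -/

set_option autoImplicit false

universe u

open Submodule

namespace Groth.Agent.GrpdSemiBasis

variable {B A M : Type u} [CommRing B] [CommRing A] [IsLocalRing B] [Infinite (IsLocalRing.ResidueField B)]
  [Algebra B A] [AddCommGroup M] [Module A M] [Module B M] [IsScalarTower B A M]

/-- Finitely many proper submodules, stable under the maximal ideal, do not cover. -/
theorem exists_avoid {ι : Type*} (s : Finset ι) (N : Submodule B M) (W : ι → Submodule B M)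
    (hW : ∀ i ∈ s, ∃ y ∈ N, y ∉ W i) : ∃ x ∈ N, ∀ i ∈ s, x ∉ W i := by
  classical
  induction s using Finset.induction_on with
  | empty => exact ⟨0, N.zero_mem, by simp⟩
  | @insert j t hjt ih =>
    obtain ⟨x, hxN, hx⟩ := ih fun i hi => hW i (Finset.mem_insert_of_mem hi)
    obtain ⟨y, hyN, hy⟩ := hW j (Finset.mem_insert_self j t)
    by_cases hxj : x ∈ W j
    · choose rep hrep using IsLocalRing.residue_surjective (R := B)
      let bad : ι → Set (IsLocalRing.ResidueField B) := fun i => {c | y + rep c • x ∈ W i}
      have hbad : ∀ i ∈ t, (bad i).Subsingleton := by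
        intro i hi c hc c' hc'
        by_contra hne
        have hu : IsUnit (rep c - rep c') := by
          rw [← IsLocalRing.residue_ne_zero_iff_isUnit, map_sub, hrep, hrep]
          exact sub_ne_zero.2 hne
        refine hx i hi ?_
        have h := (W i).sub_mem hc hc'
        rw [add_sub_add_left_eq_sub, ← sub_smul] at h
        exact ((W i).smul_mem_iff_of_isUnit hu).1 h
      have hfin : (⋃ i ∈ t, bad i).Finite := t.finite_toSet.biUnion fun i hi => (hbad i hi).finite
      obtain ⟨c, hc⟩ := hfin.infinite_compl.nonempty
      refine ⟨y + rep c • x, N.add_mem hyN (N.smul_mem _ hxN), fun i hi => ?_⟩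
      rcases Finset.mem_insert.1 hi with rfl | hi
      · intro h
        exact hy (((W i).add_mem_iff_left ((W i).smul_mem _ hxj)).1 h)
      · exact fun h => hc (Set.mem_biUnion hi h)
    · exact ⟨x, hxN, fun i hi => by
        rcases Finset.mem_insert.1 hi with rfl | hi
        exacts [hxj, hx i hi]⟩

theorem exists_basis [Finite (MaximalSpectrum A)] [Module.Free A M] [Module.Finite A M]
    (N : Submodule B M) (hN : Submodule.span A (N : Set M) = ⊤) :
    ∃ b : Module.Basis (Fin (Module.finrank A M)) A M, ∀ i, b i ∈ N := by
  classical
  cases subsingleton_or_nontrivial A with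
  | inl h =>
    haveI : Subsingleton M := Module.subsingleton A M
    refine ⟨Module.Basis.ofEquivFun (LinearEquiv.ofSubsingleton M (Fin (Module.finrank A M) → A)), fun i => ?_⟩
    rw [Subsingleton.elim (Module.Basis.ofEquivFun _ i) 0]
    exact N.zero_mem
  | inr h =>
    haveI : Fintype (MaximalSpectrum A) := Fintype.ofFinite _
    let r := Module.finrank A M
    let e := Module.finBasis A M
    let π : ∀ m : MaximalSpectrum A, M → (Fin r → A ⧸ m.asIdeal) := fun m x i =>
      Ideal.Quotient.mk m.asIdeal (e.repr x i)
    have πadd : ∀ m x y, π m (x + y) = π m x + π m y := fun m x y => by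
      funext i; simp [π]
    have πsmul : ∀ m (a : A) x, π m (a • x) = Ideal.Quotient.mk m.asIdeal a • π m x := fun m a x => by
      funext i; simp [π]
    have π0 : ∀ m, π m 0 = 0 := fun m => by funext i; simp [π]
    have key : ∀ k, k ≤ r → ∃ n : Fin k → M, (∀ i, n i ∈ N) ∧
        ∀ m : MaximalSpectrum A, LinearIndependent (A ⧸ m.asIdeal) (π m ∘ n) := by
      intro k hk
      induction k with
      | zero => exact ⟨Fin.elim0, fun i => i.elim0, fun m => linearIndependent_empty_type⟩
      | succ k ih =>
        obtain ⟨n, hnN, hn⟩ := ih (Nat.le_of_succ_le hk)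
        let S := fun m : MaximalSpectrum A => Submodule.span (A ⧸ m.asIdeal) (Set.range (π m ∘ n))
        let W : MaximalSpectrum A → Submodule B M := fun m =>
          { carrier := {x | π m x ∈ S m}
            add_mem' := fun {x y} hx hy => by
              show π m (x + y) ∈ S m
              rw [πadd]
              exact (S m).add_mem hx hy
            zero_mem' := by
              show π m 0 ∈ S m
              rw [π0]
              exact (S m).zero_mem
            smul_mem' := fun b x hx => by
              show π m (b • x) ∈ S m
              rw [← algebraMap_smul A b x, πsmul]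
              exact (S m).smul_mem _ hx }
        obtain ⟨x, hxN, hx⟩ := exists_avoid (Finset.univ) N W fun m _ => by
          by_contra! hall
          have hall' : ∀ z : M, π m z ∈ S m := by
            intro z
            have hz : z ∈ Submodule.span A (N : Set M) := hN ▸ Submodule.mem_top
            induction hz using Submodule.span_induction with
            | mem y hy => exact hall y hy
            | zero => rw [π0]; exact (S m).zero_mem
            | add a b _ _ ha hb => rw [πadd]; exact (S m).add_mem ha hb
            | smul a b _ hb => rw [πsmul]; exact (S m).smul_mem _ hb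
          have htop : S m = ⊤ := by
            refine eq_top_iff.2 fun v _ => ?_
            choose v' hv' using fun i => Ideal.Quotient.mk_surjective (v i)
            have := hall' (e.equivFun.symm v')
            rwa [show π m (e.equivFun.symm v') = v from funext fun i => by
              show Ideal.Quotient.mk _ (e.equivFun (e.equivFun.symm v') i) = _
              rw [LinearEquiv.apply_symm_apply, hv']] at this
          letI := Ideal.Quotient.field m.asIdeal
          have h1 : Module.finrank (A ⧸ m.asIdeal) (S m) = r := by
            rw [htop, finrank_top, Module.finrank_fin_fun]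
          have h2 : Module.finrank (A ⧸ m.asIdeal) (S m) ≤ k := by
            exact (finrank_range_le_card (R := A ⧸ m.asIdeal) (π m ∘ n)).trans_eq (Fintype.card_fin k)
          omega
        refine ⟨Fin.cons x n, Fin.cases hxN hnN, fun m => ?_⟩
        letI := Ideal.Quotient.field m.asIdeal
        rw [Fin.comp_cons, linearIndependent_finCons]
        exact ⟨hn m, hx m (Finset.mem_univ m)⟩
    obtain ⟨n, hnN, hn⟩ := key r le_rfl
    have hdet : IsUnit (e.det n) := by
      by_contra hd
      obtain ⟨m, hm, hdm⟩ := Ideal.exists_le_maximal _ (Ideal.span_singleton_eq_top.not.2 hd)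
      letI := Ideal.Quotient.field m
      have hmat : ((e.toMatrix n).map (Ideal.Quotient.mk m)).det = 0 := by
        rw [← RingHom.mapMatrix_apply, ← RingHom.map_det, ← Module.Basis.det_apply]
        exact Ideal.Quotient.eq_zero_iff_mem.2 (hdm (Ideal.mem_span_singleton_self _))
      have hind : IsUnit ((e.toMatrix n).map (Ideal.Quotient.mk m)).transpose := by
        refine Matrix.linearIndependent_rows_iff_isUnit.1 ?_
        exact hn ⟨m, hm⟩
      rw [Matrix.isUnit_iff_isUnit_det, Matrix.det_transpose, hmat] at hind
      exact not_isUnit_zero hind
    have hb := (e.is_basis_iff_det).2 hdet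
    exact ⟨Module.Basis.mk hb.1 hb.2.ge, fun i => by rw [Module.Basis.mk_apply]; exact hnN i⟩

end Groth.Agent.GrpdSemiBasis
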